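import Groth.Agent.EtIntegralBC.Main
import Groth.Agent.EtIntegral.Push
import Groth.Agent.EtPushStalk.Unit
import Groth.Agent.EtCohDesc.Retract
import Groth.Agent.EtMV.HofPush
import Groth.Agent.MonadSS.Basic
import Groth.Agent.DerExt.Coyoneda

/-!
Cohomological descent for integral surjective morphisms.
-/

set_option autoImplicit false
set_option linter.style.haveILetI false
set_option linter.unusedSectionVars false
set_option backward.isDefEq.respectTransparency false
set_option backward.isDefEq.respectTransparency.types false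

universe u

open CategoryTheory Category Limits Opposite AlgebraicGeometry
open Groth.Agent.EtCohDesc (pullCompIso pullIdIso bcId Zc hIso P base Fp)

namespace Groth.Agent.EtIntegralDesc

variable {X Y : Scheme.{u}}

theorem mono_unit (f : X ⟶ Y) [Surjective f] (F : EtCoh.Ab Y) :
    Mono ((EtCoh.pullPushAdj f).unit.app F) := by
  refine ⟨fun {Z} a b hab => Sheaf.hom_ext (NatTrans.ext (funext fun V => AddCommGrpCat.ext fun s => ?_))⟩
  rw [← sub_eq_zero]
  let t : EtCoh.sect F V.unop := a.hom.app V s - b.hom.app V s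
  have hu : ((EtCoh.pullPushAdj f).unit.app F).hom.app (op V.unop) t = 0 := by
    simp only [t]
    rw [map_sub, sub_eq_zero]
    exact ConcreteCategory.congr_hom (congrArg (fun k => k.hom.app V) hab) s
  have h := (Groth.Agent.EtPushStalk.unit_eq_zero_iff f F V.unop t).mp hu
  have ht := (Groth.Agent.EtSect.map_eq_zero_iff F t (𝟙 _)).mpr (by
    rintro p - hp
    obtain ⟨q, hq⟩ := (inferInstance : Surjective (pullback.fst V.unop.hom f)).surj p
    exact h ⟨q, hq⟩ hp)
  simp only [op_id, CategoryTheory.Functor.map_id, ConcreteCategory.id_apply] at ht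
  exact ht

/-- direct image along the identity -/
noncomputable def pushId (S : Scheme.{u}) : EtCoh.push (𝟙 S) ≅ 𝟭 (EtCoh.Ab S) :=
  Functor.sheafPushforwardContinuousId' (bcId S) AddCommGrpCat.{u + 1} S.smallEtaleTopology

theorem nonempty_bc_step {P P' : Scheme.{u}} (f : X ⟶ Y) (h : P ⟶ Y) (h' : P' ⟶ X) (g' : P' ⟶ P)
    [IsIntegralHom h] [IsIntegralHom h'] (sq : IsPullback g' h' h f) (k : P' ⟶ Y) (hk : h' ≫ f = k)
    (F : EtCoh.Ab Y) :
    Nonempty ((EtCoh.push f).obj ((EtCoh.pull f).obj ((EtCoh.push h).obj ((EtCoh.pull h).obj F))) ≅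
      (EtCoh.push k).obj ((EtCoh.pull k).obj F)) := by
  haveI := Groth.Agent.EtIntegralBC.isIso_baseChange0_pull sq F
  exact ⟨(EtCoh.push f).mapIso (asIso (EtCoh.baseChange0 h f h' g' sq.w ((EtCoh.pull h).obj F))) ≪≫
    (EtCoh.push f).mapIso ((EtCoh.push h').mapIso ((pullCompIso g' h k (sq.w.trans hk)).app F)) ≪≫
    (EtCoh.pushComp f h' ≪≫ EtCoh.pushCongr hk).app _⟩

variable (f : X ⟶ Y)

/-- the projection of the first coordinate -/
noncomputable abbrev pr₀ (p : ℕ) : P f p ⟶ X := WidePullback.π (fun _ : Fin (p + 1) => f) 0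

theorem isPullback_zero : IsPullback (base f 0) (pr₀ f 0) (𝟙 Y) f := by
  have hw : base f 0 ≫ 𝟙 Y = pr₀ f 0 ≫ f := by
    rw [comp_id, WidePullback.π_arrow]
  refine IsPullback.of_isLimit (PullbackCone.IsLimit.mk hw
    (fun s => WidePullback.lift s.fst (fun _ => s.snd) fun _ => by rw [← s.condition, comp_id])
    (fun s => WidePullback.lift_base _ _ _ _) (fun s => WidePullback.lift_π _ _ _ _ _) fun s m h1 h2 => ?_)
  refine WidePullback.hom_ext _ _ _ (fun i => ?_) ?_
  · obtain rfl : i = 0 := Subsingleton.elim (α := Fin 1) _ _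
    rw [WidePullback.lift_π]; exact h2
  · rw [WidePullback.lift_base]; exact h1

/-- forgetting the first coordinate -/
noncomputable def tailMap (p : ℕ) : P f (p + 1) ⟶ P f p :=
  WidePullback.lift (base f (p + 1)) (fun i => WidePullback.π (fun _ : Fin (p + 1 + 1) => f) i.succ)
    fun i => WidePullback.π_arrow _ _

theorem isPullback_succ (p : ℕ) : IsPullback (tailMap f p) (pr₀ f (p + 1)) (base f p) f := by
  have hw : tailMap f p ≫ base f p = pr₀ f (p + 1) ≫ f := by
    rw [tailMap, WidePullback.lift_base, WidePullback.π_arrow]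
  refine IsPullback.of_isLimit (PullbackCone.IsLimit.mk hw
    (fun s => WidePullback.lift (s.fst ≫ base f p)
      (Fin.cases s.snd fun i => s.fst ≫ WidePullback.π (fun _ : Fin (p + 1) => f) i) fun i => by
        cases i using Fin.cases with
        | zero => simpa using s.condition.symm
        | succ i => simp) (fun s => ?_) (fun s => by simp) fun s m h1 h2 => ?_)
  · refine WidePullback.hom_ext _ _ _ (fun i => ?_) ?_ <;> simp [tailMap]
  · refine WidePullback.hom_ext _ _ _ (fun i => ?_) ?_
    · cases i using Fin.cases with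
      | zero => simpa using h2
      | succ i => simp [← h1, tailMap]
    · simp [← h1, tailMap]

variable [IsIntegralHom f]

theorem isIntegralHom_base : ∀ p, IsIntegralHom (base f p) := by
  intro p
  induction p with
  | zero =>
    have : IsIntegralHom (base f 0) := MorphismProperty.of_isPullback (isPullback_zero f).flip ‹IsIntegralHom f›
    exact this
  | succ p ih =>
    haveI : IsIntegralHom (pr₀ f (p + 1)) := MorphismProperty.of_isPullback (isPullback_succ f p) ih
    show IsIntegralHom (WidePullback.base (fun _ : Fin (p + 1 + 1) => f))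
    rw [← WidePullback.π_arrow (fun _ : Fin (p + 1 + 1) => f) 0]
    infer_instance

instance isIntegralHom_pr₀ (p : ℕ) : IsIntegralHom (pr₀ f p) := by
  cases p with
  | zero => exact MorphismProperty.of_isPullback (isPullback_zero f) (inferInstanceAs (IsIntegralHom (𝟙 Y)))
  | succ p => exact MorphismProperty.of_isPullback (isPullback_succ f p) (isIntegralHom_base f p)

/-- the monad of the morphism -/
noncomputable abbrev Tf : EtCoh.Ab Y ⥤ EtCoh.Ab Y := EtCoh.pull f ⋙ EtCoh.push f

theorem nonempty_it_iso (F : EtCoh.Ab Y) : ∀ p, Nonempty (MonadSS.it (Tf f) p F ≅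
    (EtCoh.push (base f p)).obj ((EtCoh.pull (base f p)).obj F)) := by
  intro p
  induction p with
  | zero =>
    obtain ⟨e⟩ := nonempty_bc_step f (𝟙 Y) (pr₀ f 0) (base f 0) (isPullback_zero f) (base f 0)
      (WidePullback.π_arrow _ _) F
    exact ⟨(Tf f).mapIso (pullIdIso.symm.app F ≪≫ (pushId Y).symm.app _) ≪≫ e⟩
  | succ p ih =>
    obtain ⟨a⟩ := ih
    haveI := isIntegralHom_base f p
    obtain ⟨e⟩ := nonempty_bc_step f (base f p) (pr₀ f (p + 1)) (tailMap f p) (isPullback_succ f p)
      (base f (p + 1)) (WidePullback.π_arrow _ _) F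
    exact ⟨(Tf f).mapIso a ≪≫ e⟩

/-- global sections -/
noncomputable abbrev gam (S : Scheme.{u}) : EtCoh.Ab S ⥤ AddCommGrpCat.{u + 1} :=
  preadditiveCoyoneda.obj (op (Zc S))

theorem descent_ss [Surjective f] (F : EtCoh.Ab Y) :
    ∃ (E : CohomologicalSpectralSequence AddCommGrpCat.{u + 1} 1)
      (a : SpSeq.Abutment E (fun n : ℤ =>
        if 0 ≤ n then AddCommGrpCat.of (EtCoh.H Y F n.toNat) else AddCommGrpCat.of PUnit.{u + 2})),
      (∀ n, a.IsFinite n) ∧ SpSeq.IsBounded E ∧
      ∀ p q : ℤ, Nonempty ((E.page 1 le_rfl).X (p, q) ≅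
        (if 0 ≤ p ∧ 0 ≤ q then
          AddCommGrpCat.of (EtCoh.H (P f p.toNat) (Fp f F p.toNat) q.toNat)
         else AddCommGrpCat.of PUnit.{u + 2})) := by
  haveI : PreservesFiniteColimits (EtCoh.push f) := Groth.Agent.EtIntegral.push_preservesFiniteColimits f
  haveI : (EtCoh.push f).IsRightAdjoint := (EtCoh.pullPushAdj f).isRightAdjoint
  haveI : PreservesFiniteLimits (EtCoh.push f) := inferInstance
  haveI : (EtCoh.push f).Additive := (EtCoh.pullPushAdj f).right_adjoint_additive
  haveI : PreservesFiniteLimits (Tf f) := comp_preservesFiniteLimits _ _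
  haveI : PreservesFiniteColimits (Tf f) := comp_preservesFiniteColimits _ _
  refine MonadSS.exists_ss (Tf f) (EtCoh.pullPushAdj f).unit (fun K => ?_) (fun K => mono_unit f K) (gam Y) F
    (fun n => AddCommGrpCat.of (EtCoh.H Y F n)) (fun p q => AddCommGrpCat.of (EtCoh.H (P f p) (Fp f F p) q))
    _ (AddCommGrpCat.isZero_of_subsingleton _) (fun n => ⟨(DerExt.rightDerivedIso (Zc Y) n).app F⟩) (fun p q => ?_)
  · refine ⟨(EtCoh.push f).map ((EtCoh.pullPushAdj f).counit.app ((EtCoh.pull f).obj K)), ?_⟩
    change (EtCoh.push f).map ((EtCoh.pull f).map ((EtCoh.pullPushAdj f).unit.app K)) ≫ _ = _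
    rw [← Functor.map_comp]
    exact (congrArg (EtCoh.push f).map ((EtCoh.pullPushAdj f).left_triangle_components K)).trans
      ((EtCoh.push f).map_id _)
  · obtain ⟨e⟩ := nonempty_it_iso f F p
    haveI := isIntegralHom_base f p
    exact ⟨((gam Y).rightDerived q).mapIso e ≪≫ (DerExt.rightDerivedIso (Zc Y) q).app _ ≪≫
      (AddEquiv.ofBijective (EtLim.HofPush (base f p) (Fp f F p) q)
        (EtMV.HofPush_bijective (base f p) _ (fun r => Groth.Agent.EtIntegral.Rpush_succ_isZero (base f p) _ r) q)).toAddCommGrpIso⟩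

end Groth.Agent.EtIntegralDesc
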